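import Mathlib
import Cfsg.Agent.Lib.F42.Defs

theorem CfsgLib.Auto.CfsgLib_F42_cwT_eq_26 : type_of% @CfsgLib.F42.cwT.eq_26 := @CfsgLib.F42.cwT.eq_26
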