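import Mathlib
import Cfsg.Agent.Lib.MaxCl.Engel

theorem CfsgLib.Auto.CfsgLib_MaxCl_iterC_eq_def : type_of% @CfsgLib.MaxCl.iterC.eq_def := @CfsgLib.MaxCl.iterC.eq_def
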