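import Mathlib
import Cfsg.Agent.Lib.MinDeg.G2a

theorem CfsgLib.Auto.CfsgLib_MinDeg_tbl_eq_61 : type_of% @CfsgLib.MinDeg.tbl.eq_61 := @CfsgLib.MinDeg.tbl.eq_61
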