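import Mathlib
import Cfsg.Agent.Lib.SLF.Ring1aT

theorem CfsgLib.Auto.CfsgLib_SLF_ra_par_eq_def : type_of% @CfsgLib.SLF.ra_par.eq_def := @CfsgLib.SLF.ra_par.eq_def
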