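import Mathlib

theorem CfsgLib.Auto.Nat_ble_eq_def : type_of% @Nat.ble.eq_def := @Nat.ble.eq_def
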